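import Groth.Agent.Lib.VarDim.Normal
import Mathlib.AlgebraicGeometry.Morphisms.FormallyUnramified
import Mathlib.AlgebraicGeometry.Morphisms.Finite
import Mathlib.FieldTheory.PurelyInseparable.PerfectClosure

/-!
# `p`-th roots descend along unramified maps to normal schemes
-/

set_option autoImplicit false
set_option linter.style.haveILetI false
set_option backward.isDefEq.respectTransparency.types false

universe u

open CategoryTheory AlgebraicGeometry TopologicalSpace

namespace Groth.Agent.PthRootDesc13

/-- A separable element whose `p`-th power is in the ground field is in the ground field. -/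
theorem mem_range_of_pow_mem {K L : Type u} [Field K] [Field L] [Algebra K L] [Algebra.IsSeparable K L]
    (p : ℕ) [ExpChar K p] (w : L) (a : K) (hw : w ^ p = algebraMap K L a) :
    w ∈ (algebraMap K L).range := by
  have h := IntermediateField.adjoin_simple_eq_adjoin_pow_expChar_pow_of_isSeparable' K L w p 1
  rw [pow_one, hw] at h
  have hmem : w ∈ IntermediateField.adjoin K {algebraMap K L a} :=
    h ▸ IntermediateField.mem_adjoin_simple_self K w
  have hb : IntermediateField.adjoin K {algebraMap K L a} = ⊥ :=
    IntermediateField.adjoin_simple_eq_bot_iff.mpr (IntermediateField.algebraMap_mem _ a)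
  rw [hb] at hmem
  exact RingHom.mem_range.mpr (IntermediateField.mem_bot.mp hmem)

theorem charP_functionField (X : Scheme.{u}) [IsIntegral X] (p : ℕ) [CharP (Γ(X, ⊤) : Type u) p] :
    CharP X.functionField p :=
  haveI : Nonempty (⊤ : X.Opens) := ⟨⟨genericPoint X, trivial⟩⟩
  charP_of_injective_ringHom (X.germToFunctionField_injective ⊤) p

/-- Above a normal scheme, a `p`-th root upstairs gives one downstairs. -/
theorem exists_pow_eq {X X' : Scheme.{u}} [IsIntegral X] (hnorm : ∀ x : X, IsIntegrallyClosed (X.presheaf.stalk x))
    (p : ℕ) [Fact p.Prime] [CharP (Γ(X, ⊤) : Type u) p] (f : X' ⟶ X) [FormallyUnramified f] [LocallyOfFiniteType f]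
    (x' : X') (hx' : f x' = genericPoint X) (U : X.Opens) [Nonempty U] (a : Γ(X, U))
    (w : Γ(X', f ⁻¹ᵁ U)) (hw : f.app U a = w ^ p) : ∃ r : Γ(X, U), r ^ p = a := by
  have hxU : f x' ∈ U := by
    rw [hx']
    exact (genericPoint_spec X).mem_open_set_iff U.2 |>.mpr
      (by obtain ⟨⟨z, hz⟩⟩ := ‹Nonempty U›; exact ⟨z, trivial, hz⟩)
  haveI := charP_functionField X p
  letI : Algebra (X.residueField (f x')) (X'.residueField x') := (f.residueFieldMap x').hom.toAlgebra
  let π : X.presheaf.stalk (f x') →+* X.residueField (f x') := (X.residue (f x')).hom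
  haveI : Fact (Function.Injective π) := ⟨by
    haveI : IsField (X.presheaf.stalk (f x')) := by
      rw [hx']; exact Field.toIsField X.functionField
    refine (RingHom.injective_iff_ker_eq_bot _).mpr ?_
    exact IsLocalRing.ker_residue.trans (IsLocalRing.isField_iff_maximalIdeal_eq.mp this)⟩
  haveI : CharP (X.residueField (f x')) p := by
    have : CharP (X.presheaf.stalk (f x')) p := by rw [hx']; exact charP_functionField X p
    exact charP_of_injective_ringHom (Fact.out : Function.Injective π) p
  haveI : ExpChar (X.residueField (f x')) p := ExpChar.prime Fact.out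
  let A := X.evaluation U (f x') hxU a
  have hA : algebraMap (X.residueField (f x')) (X'.residueField x') A =
      X'.evaluation (f ⁻¹ᵁ U) x' hxU (f.app U a) :=
    Scheme.evaluation_naturality_apply f x' hxU a
  obtain ⟨b, hb⟩ := mem_range_of_pow_mem (K := X.residueField (f x')) p
    (X'.evaluation (f ⁻¹ᵁ U) x' hxU w) A (by rw [hA, hw, map_pow])
  have hbA : b ^ p = A := (algebraMap (X.residueField (f x')) (X'.residueField x')).injective
    (by rw [map_pow, hb, hA, hw, map_pow])
  obtain ⟨s, hs⟩ := Scheme.residue_surjective X (f x') b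
  have hspec : genericPoint X ⤳ f x' := specializes_of_eq hx'.symm
  let z : X.functionField := X.presheaf.stalkSpecializes hspec s
  have hzp : z ^ p = X.germToFunctionField U a := by
    have h1 : s ^ p = X.presheaf.germ U (f x') hxU a := (Fact.out : Function.Injective π) (by
      rw [map_pow]
      exact (congrArg (· ^ p) hs).trans hbA)
    show X.presheaf.stalkSpecializes hspec s ^ p = _
    rw [← map_pow, h1]
    exact TopCat.Presheaf.germ_stalkSpecializes_apply X.presheaf hxU hspec a
  obtain ⟨r, hr⟩ := VarDim.exists_section_of_integral hnorm U z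
    ⟨Polynomial.X ^ p - Polynomial.C a, Polynomial.monic_X_pow_sub_C a (Fact.out : p.Prime).ne_zero,
      by simp [hzp]⟩
  exact ⟨r, X.germToFunctionField_injective U (by rw [map_pow, hr, hzp])⟩

end Groth.Agent.PthRootDesc13
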